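import Mathlib.Algebra.Category.ModuleCat.Sheaf.Quasicoherent
import Mathlib.Algebra.Category.ModuleCat.Presheaf.Sheafification
import Mathlib.CategoryTheory.Sites.LocallyBijective
import Mathlib.CategoryTheory.Sites.EpiMono

/-!
# Elements of free sheaves of modules

`el c = ∑ cᵢ eᵢ`. Locally every section of a free sheaf is of this form (`el_locally_surjective`), and
`el c = 0` only if the coefficients vanish locally (`el_locally_injective`).
-/

universe u

open CategoryTheory Limits Opposite

noncomputable section

namespace Groth.Agent.ModAlg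

variable {C : Type u} [SmallCategory C] {J : GrothendieckTopology C} {R : Sheaf J RingCat.{u}}
  [HasSheafify J AddCommGrpCat.{u}] [J.WEqualsLocallyBijective AddCommGrpCat.{u}] (I : Type u)

/-- The free presheaf of modules. -/
abbrev fpre : PresheafOfModules.{u} R.obj := ∐ (fun _ : I => PresheafOfModules.unit R.obj)

/-- The comparison map. -/
def fθ : fpre (R := R) I ⟶ (SheafOfModules.forget R ⋙
    PresheafOfModules.restrictScalars (𝟙 R.obj)).obj (SheafOfModules.free (R := R) I) :=
  Sigma.desc fun i => (SheafOfModules.ιFree (R := R) i).val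

/-- The sheafification functor. -/
abbrev shf (R : Sheaf J RingCat.{u}) [HasSheafify J AddCommGrpCat.{u}]
    [J.WEqualsLocallyBijective AddCommGrpCat.{u}] :
    PresheafOfModules.{u} R.obj ⥤ SheafOfModules.{u} R :=
  PresheafOfModules.sheafification (𝟙 R.obj)

/-- Its adjunction. -/
abbrev shAdj (R : Sheaf J RingCat.{u}) [HasSheafify J AddCommGrpCat.{u}]
    [J.WEqualsLocallyBijective AddCommGrpCat.{u}] :=
  PresheafOfModules.sheafificationAdjunction.{u} (𝟙 R.obj)

instance isIso_fθ_adjunct :
    IsIso (((shAdj R).homEquiv (fpre (R := R) I) (SheafOfModules.free I)).symm (fθ I)) := by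
  have : PreservesColimitsOfSize.{u, u} (shf R) := (shAdj R).leftAdjoint_preservesColimits
  let hc := isColimitOfPreserves (shf R)
    (coproductIsCoproduct fun _ : I => PresheafOfModules.unit R.obj)
  let α : Discrete.functor (fun _ : I => PresheafOfModules.unit R.obj) ⋙ shf R ≅
      Discrete.functor (fun _ : I => SheafOfModules.unit R) :=
    Discrete.natIso fun _ => (asIso (shAdj R).counit).app (SheafOfModules.unit R)
  let e := IsColimit.coconePointsIsoOfNatIso hc (SheafOfModules.isColimitFreeCofan (R := R) I) α
  have he : ((shAdj R).homEquiv (fpre (R := R) I) (SheafOfModules.free I)).symm (fθ I) = e.hom := by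
    apply hc.hom_ext
    rintro ⟨i⟩
    refine Eq.trans ?_ (IsColimit.comp_coconePointsIsoOfNatIso_hom hc
      (SheafOfModules.isColimitFreeCofan (R := R) I) α ⟨i⟩).symm
    show (shf R).map (Sigma.ι (fun _ : I => PresheafOfModules.unit R.obj) i) ≫ _ = _
    rw [← Adjunction.homEquiv_naturality_left_symm, fθ, Sigma.ι_desc, Adjunction.homEquiv_counit]
    exact (shAdj R).counit.naturality (SheafOfModules.ιFree (R := R) i)
  rw [he]
  infer_instance

/-- The comparison map on abelian presheaves. -/
abbrev fθAb : (fpre (R := R) I).presheaf ⟶ (SheafOfModules.free (R := R) I).val.presheaf :=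
  (PresheafOfModules.toPresheaf R.obj).map (fθ I)

lemma fθ_factor : fθAb (R := R) I =
    toSheafify J (fpre (R := R) I).presheaf ≫ ((SheafOfModules.toSheaf R).map
      (((shAdj R).homEquiv (fpre (R := R) I) (SheafOfModules.free I)).symm (fθ I))).hom := by
  have h := ((shAdj R).homEquiv (fpre (R := R) I) (SheafOfModules.free I)).apply_symm_apply (fθ I)
  rw [Adjunction.homEquiv_unit] at h
  refine (congrArg ((PresheafOfModules.toPresheaf R.obj).map) h).symm.trans ?_
  refine ((PresheafOfModules.toPresheaf R.obj).map_comp _ _).trans ?_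
  refine congrArg₂ (· ≫ ·) ?_ rfl
  exact PresheafOfModules.toPresheaf_map_sheafificationAdjunction_unit_app _ _

omit [HasSheafify J AddCommGrpCat.{u}] [J.WEqualsLocallyBijective AddCommGrpCat.{u}] in
lemma locallyBijective_comp_iso {P Q S : Cᵒᵖ ⥤ AddCommGrpCat.{u}} (f : P ⟶ Q) (g : Q ⟶ S)
    [Presheaf.IsLocallyInjective J f] [Presheaf.IsLocallySurjective J f] (hg : IsIso g) :
    Presheaf.IsLocallyInjective J (f ≫ g) ∧ Presheaf.IsLocallySurjective J (f ≫ g) := by
  have : Presheaf.IsLocallyInjective J g := Presheaf.isLocallyInjective_of_injective _ _ fun U =>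
    (ConcreteCategory.bijective_of_isIso (g.app U)).1
  have : Presheaf.IsLocallySurjective J g := Presheaf.isLocallySurjective_of_surjective _ _ fun U =>
    (ConcreteCategory.bijective_of_isIso (g.app U)).2
  exact ⟨inferInstance, inferInstance⟩

lemma locallyBijective_fθAb : Presheaf.IsLocallyInjective J (fθAb (R := R) I) ∧
    Presheaf.IsLocallySurjective J (fθAb (R := R) I) := by
  rw [fθ_factor]
  have := (J.W_toSheafify (fpre (R := R) I).presheaf).isLocallyInjective
  have := (J.W_toSheafify (fpre (R := R) I).presheaf).isLocallySurjective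
  exact locallyBijective_comp_iso _ _ (inferInstanceAs (IsIso ((sheafToPresheaf J
    AddCommGrpCat.{u}).map ((SheafOfModules.toSheaf R).map
      (((shAdj R).homEquiv (fpre (R := R) I) (SheafOfModules.free I)).symm (fθ I))))))

instance : Presheaf.IsLocallyInjective J (fθAb (R := R) I) := (locallyBijective_fθAb I).1

instance : Presheaf.IsLocallySurjective J (fθAb (R := R) I) := (locallyBijective_fθAb I).2

variable {I}

/-- The `i`-th basis element. -/
def basisEl (i : I) (T : Cᵒᵖ) : (SheafOfModules.free (R := R) I).val.obj T :=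
  (SheafOfModules.freeSection (R := R) i).val T

lemma basisEl_eq (i : I) (T : Cᵒᵖ) :
    basisEl (R := R) i T = (SheafOfModules.ιFree (R := R) i).val.app T (1 : R.obj.obj T) :=
  congrArg (fun f : SheafOfModules.unit R ⟶ SheafOfModules.free I => f.val.app T (1 : R.obj.obj T))
    (Category.comp_id (SheafOfModules.ιFree (R := R) i))

/-- The section `∑ cᵢ eᵢ` of the free sheaf. -/
def el (T : Cᵒᵖ) : (I →₀ R.obj.obj T) →ₗ[R.obj.obj T] (SheafOfModules.free (R := R) I).val.obj T :=
  Finsupp.linearCombination _ fun i => basisEl i T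

lemma el_single (T : Cᵒᵖ) (i : I) (a : R.obj.obj T) :
    el T (Finsupp.single i a) = a • basisEl i T :=
  Finsupp.linearCombination_single _ _ _

lemma map_el {T T' : Cᵒᵖ} (f : T ⟶ T') (c : I →₀ R.obj.obj T) :
    (SheafOfModules.free (R := R) I).val.map f (el T c) =
      el T' (c.mapRange (R.obj.map f) (map_zero (R.obj.map f).hom)) := by
  induction c using Finsupp.induction_linear with
  | zero =>
    simp only [map_zero, Finsupp.mapRange_zero]
    rfl
  | add x y hx hy =>
    refine (congrArg _ (map_add (el T) x y)).trans ?_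
    refine (map_add ((SheafOfModules.free (R := R) I).val.map f).hom _ _).trans ((congrArg₂ (· + ·) hx hy).trans ?_)
    exact (map_add (el T') _ _).symm.trans (congrArg (el T')
      (Finsupp.mapRange_add (fun a b => map_add (R.obj.map f).hom a b) x y).symm)
  | single i a =>
    rw [Finsupp.mapRange_single, el_single, el_single, PresheafOfModules.map_smul]
    congr 1
    exact (SheafOfModules.freeSection (R := R) i).property f

/-- The element of the free presheaf. -/
def fel (T : Cᵒᵖ) : (I →₀ R.obj.obj T) →ₗ[R.obj.obj T] (fpre (R := R) I).obj T :=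
  Finsupp.linearCombination _ fun i =>
    (Sigma.ι (fun _ : I => PresheafOfModules.unit R.obj) i).app T (1 : R.obj.obj T)

lemma fθ_fel (T : Cᵒᵖ) (c : I →₀ R.obj.obj T) : (fθAb (R := R) I).app T (fel T c) = el T c := by
  show ((fθ (R := R) I).app T).hom (fel T c) = el T c
  have h : (((fθ (R := R) I).app T).hom.comp (fel T) : (I →₀ R.obj.obj T) →ₗ[R.obj.obj T] _) =
      el T := Finsupp.lhom_ext fun i a => by
    show ((fθ (R := R) I).app T).hom (fel T (Finsupp.single i a)) = el T (Finsupp.single i a)
    rw [fel, Finsupp.linearCombination_single, el_single, map_smul]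
    congr 1
    refine Eq.trans ?_ (basisEl_eq i T).symm
    exact congrArg (fun f => PresheafOfModules.Hom.app f T (1 : R.obj.obj T))
      (Sigma.ι_desc (fun i => (SheafOfModules.ιFree (R := R) i).val) i)
  exact LinearMap.congr_fun h c

lemma map_fel {T T' : Cᵒᵖ} (f : T ⟶ T') (c : I →₀ R.obj.obj T) :
    (fpre (R := R) I).map f (fel T c) =
      fel T' (c.mapRange (R.obj.map f) (map_zero (R.obj.map f).hom)) := by
  induction c using Finsupp.induction_linear with
  | zero =>
    simp only [map_zero, Finsupp.mapRange_zero]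
    rfl
  | add x y hx hy =>
    refine (congrArg _ (map_add (fel T) x y)).trans ?_
    refine (map_add ((fpre (R := R) I).map f).hom _ _).trans ((congrArg₂ (· + ·) hx hy).trans ?_)
    exact (map_add (fel T') _ _).symm.trans (congrArg (fel T')
      (Finsupp.mapRange_add (fun a b => map_add (R.obj.map f).hom a b) x y).symm)
  | single i a =>
    rw [Finsupp.mapRange_single, fel, Finsupp.linearCombination_single, fel,
      Finsupp.linearCombination_single, PresheafOfModules.map_smul]
    congr 1
    refine (PresheafOfModules.naturality_apply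
      (Sigma.ι (fun _ : I => PresheafOfModules.unit R.obj) i) f (1 : R.obj.obj T)).symm.trans ?_
    exact congrArg _ (PresheafOfModules.unit_map_one _ _)

lemma fel_bijective (T : Cᵒᵖ) : Function.Bijective (fel (R := R) (I := I) T) := by
  let hc := isColimitOfPreserves (PresheafOfModules.evaluation R.obj T)
    (coproductIsCoproduct fun _ : I => PresheafOfModules.unit R.obj)
  let s : Cocone (Discrete.functor (fun _ : I => PresheafOfModules.unit R.obj) ⋙
      PresheafOfModules.evaluation R.obj T) :=
    { pt := ModuleCat.of (R.obj.obj T) (I →₀ R.obj.obj T)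
      ι := Discrete.natTrans fun i => ModuleCat.ofHom (Finsupp.lsingle i.as) }
  let Φ := hc.desc s
  have hΦ : ∀ i (a : R.obj.obj T),
      Φ.hom ((Sigma.ι (fun _ : I => PresheafOfModules.unit R.obj) i).app T a) =
        Finsupp.single i a := fun i a =>
    congr($(hc.fac s ⟨i⟩) a)
  have h1 : ∀ c, Φ.hom (fel T c) = c := by
    intro c
    induction c using Finsupp.induction_linear with
    | zero => rw [map_zero]; exact map_zero Φ.hom
    | add x y hx hy => rw [map_add]; exact (map_add Φ.hom _ _).trans (congrArg₂ (· + ·) hx hy)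
    | single i a =>
      rw [fel, Finsupp.linearCombination_single]
      refine (map_smul Φ.hom a _).trans ?_
      rw [hΦ]
      exact (Finsupp.smul_single _ _ _).trans (congrArg _ (mul_one a))
  refine ⟨Function.LeftInverse.injective (g := Φ.hom) h1, fun z => ⟨Φ.hom z, ?_⟩⟩
  have h2 : Φ ≫ ModuleCat.ofHom (fel T) = 𝟙 _ := by
    apply hc.hom_ext
    rintro ⟨i⟩
    refine ((Category.assoc _ _ _).symm.trans ?_).trans (Category.comp_id _).symm
    rw [hc.fac]
    refine ModuleCat.hom_ext (LinearMap.ext fun (a : R.obj.obj T) => ?_)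
    show fel T (Finsupp.single i a) = _
    rw [fel, Finsupp.linearCombination_single]
    refine ((map_smul ((Sigma.ι (fun _ : I => PresheafOfModules.unit R.obj) i).app T).hom a
      (1 : R.obj.obj T)).symm).trans ?_
    exact congrArg _ (mul_one a)
  exact congr($h2 z)

/-- Locally, sections of a free sheaf are finite combinations of the basis. -/
theorem el_locally_surjective {T : Cᵒᵖ} (s : (SheafOfModules.free (R := R) I).val.obj T) :
    ∃ S ∈ J T.unop, ∀ ⦃V : C⦄ (f : V ⟶ T.unop), S f →
      ∃ c : I →₀ R.obj.obj (op V), (SheafOfModules.free (R := R) I).val.map f.op s = el (op V) c := by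
  refine ⟨_, Presheaf.imageSieve_mem J (fθAb (R := R) I) (U := T) s, fun V f hf => ?_⟩
  obtain ⟨t, ht⟩ := hf
  obtain ⟨c, rfl⟩ := (fel_bijective (R := R) (op V)).2 t
  exact ⟨c, ht.symm.trans (fθ_fel _ c)⟩

/-- A vanishing combination has locally vanishing coefficients. -/
theorem el_locally_injective {T : Cᵒᵖ} (c : I →₀ R.obj.obj T) (h : el T c = 0) :
    ∃ S ∈ J T.unop, ∀ ⦃V : C⦄ (f : V ⟶ T.unop), S f → ∀ i, R.obj.map f.op (c i) = 0 := by
  refine ⟨_, Presheaf.equalizerSieve_mem J (fθAb (R := R) I) (fel T c) (fel T 0)
    (by rw [fθ_fel, fθ_fel, h, map_zero]), fun V f hf i => ?_⟩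
  have e : (fpre (R := R) I).map f.op (fel T c) = (fpre (R := R) I).map f.op (fel T 0) := hf
  rw [map_fel, map_fel] at e
  have := DFunLike.congr_fun ((fel_bijective (R := R) (op V)).1 e) i
  rw [Finsupp.mapRange_apply, Finsupp.mapRange_zero, Finsupp.zero_apply] at this
  exact this

/-- A morphism out of a free sheaf evaluates combinations. -/
lemma hom_el {M : SheafOfModules.{u} R} (g : SheafOfModules.free I ⟶ M) (T : Cᵒᵖ)
    (c : I →₀ R.obj.obj T) :
    g.val.app T (el T c) =
      Finsupp.linearCombination (R.obj.obj T)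
        (fun i => (show M.val.obj T from (M.freeHomEquiv g i).val T)) c := by
  show (g.val.app T).hom (Finsupp.linearCombination _ _ c) = _
  rw [Finsupp.apply_linearCombination]
  rfl

omit [HasSheafify J AddCommGrpCat.{u}] [J.WEqualsLocallyBijective AddCommGrpCat.{u}] in
/-- A locally surjective morphism of sheaves of modules is an epimorphism. -/
theorem epi_of_locally {M N : SheafOfModules.{u} R} (g : M ⟶ N)
    (h : ∀ (T : Cᵒᵖ) (y : N.val.obj T), ∃ S ∈ J T.unop, ∀ ⦃V : C⦄ (f : V ⟶ T.unop), S f →
      ∃ x : M.val.obj (op V), g.val.app (op V) x = N.val.map f.op y) : Epi g := by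
  have hs : Presheaf.IsLocallySurjective J ((PresheafOfModules.toPresheaf R.obj).map g.val) :=
    ⟨fun {U} y => by
      obtain ⟨S, hS, hy⟩ := h (op U) y
      refine J.superset_covering (fun V f hf => ?_) hS
      obtain ⟨x, hx⟩ := hy f hf
      exact ⟨x, hx⟩⟩
  have : Sheaf.IsLocallySurjective ((SheafOfModules.toSheaf R).map g) := hs
  exact (SheafOfModules.toSheaf R).epi_of_epi_map inferInstance

/-- Monomorphisms of sheaves of modules are injective on sections. -/
theorem app_injective {M N : SheafOfModules.{u} R} (g : M ⟶ N) [Mono g] (T : Cᵒᵖ) :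
    Function.Injective (g.val.app T) := by
  have h1 : Mono ((SheafOfModules.forget R).map g) := inferInstance
  have h2 : Mono ((PresheafOfModules.evaluation R.obj T).map ((SheafOfModules.forget R).map g)) :=
    inferInstance
  exact (ModuleCat.mono_iff_injective _).mp h2

end Groth.Agent.ModAlg

end
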